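import Mathlib
import Cfsg.Agent.Spor.Comp.Pres

/-! Generated by tools/pg: stabiliser chain l3 -/

set_option autoImplicit false
set_option maxRecDepth 100000
set_option linter.unusedVariables false
set_option exponentiation.threshold 100000

namespace Cfsg.Agent.Spor.MON

open Cfsg.Agent.Spor

noncomputable def l3_S_t0 : BT :=
(.node (.node (.node (.node (.node (.leaf (nat_lit 0x2660ab5f474868bf63136b7c2989b50dac85a4c8f75ce233aa5711821c314010b83566e4a7b17cde265401))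
 (.leaf (nat_lit 0x186d769665c968927aa6a72d78d37cf65515104cf4a27a17608dfbebbb1b70b0b38a3493081810c51c2100))
) (.leaf (nat_lit 0x2b2169323dddf0a626d4361a2fd8c4da9982ad7d1d0b83566e4a71821c314011ce233aa5719497b35ec401))
) (.node (.leaf (nat_lit 0x14dc13706e97a37408217ea6ab282cd2d2e3c9a0772f9722d854419158ce27b190e4390b76c57993d45222))
 (.leaf (nat_lit 0x217a27e381d30d38824a2c1083105187beeb6caf1c1a5997186d74d541250f4689a4a6796adf8cb3d35d80))
)) (.node (.node (.node (.leaf (nat_lit 0x249ea9a99685997186d76882ce28d24caeec6dc2cbdd8237e27a13d25515104f2d78d37cf6184087143040))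
 (.leaf (nat_lit 0x289a4a6796a49055344f52daf0bacc6f5dc69859b672df5cf8db48e17dd8a078d2c938c2880c7101142180))
) (.leaf (nat_lit 0x61c108310579d8e28607c82ce28d24cd36e33d77c995dc69859b5115523d342fc31aecb6e9259a7a29a80))
) (.node (.leaf (nat_lit 0x243c1c9d5ab428c188380b672911fb120eede58d168e24d2c030ab476d5867cd9d14bde1aa4d7171d66888))
 (.leaf (nat_lit 0x1b7165d865a8a375e7e0869aa49669e8c31aecb6ebf7e32cf4d7634e20928b31454f4114931c61440c2040))
))) (.node (.node (.node (.node (.leaf (nat_lit 0x2c86a0cd3f512f2e2565c88a304028387c146d98ad294dd3ae1b348c1e47b1ddc6976566c05091678ebd98))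
 (.leaf (nat_lit 0x38cb3d35db7bf0c6bb2dba69e8a6a92575e7e08628db7165d865a4935153d044928b30d3881051870420c0))
) (.leaf (nat_lit 0x11dc80e395a1f472224fa2ac9f4056ccc00b2daf1bddce93981935f812450a84bd52667801795096366dae))
) (.node (.leaf (nat_lit 0x1baae33215f5a9bcad478d8a302380a06a7c4dd0475c9ab2f71a15e5b09cc179992d3b60e24d544f494010))
 (.leaf (nat_lit 0x249a8aa59e924b34828c39f8637a089dd77cb4db8cda71765b598c2bb6fc6cb9541250f4530c7101142180))
)) (.node (.node (.node (.leaf (nat_lit 0xdc6769d134230a18802e0abe95a31f532ea9b7c5c8eb646620f626c957781ccbae67211b74d544f494010))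
 (.leaf (nat_lit 0x104524d454f5d865a6dc59e7e08628dd9669e8a6a92cb6ebf0c6bcf4d76df8c8928b30d3881c61440c2040))
) (.leaf (nat_lit 0x1140f5544d26da6585d671e7638a181fa279a592aa6bc70beeb6cd74cf2e37d8e34c2ca2481461c1083100))
) (.node (.leaf (nat_lit 0xc28834b24e85f76281e8f6d32df5cf869859b65772fb6bc2eb314d13d44905689a4a6796a1070c6085040))
 (.leaf (nat_lit 0x1e89f8e076145548f4d0535cb6cf7d38a25a66aa791b61c65669738b20c24d2abbecc2dc6e1810c51c2100))
))))

noncomputable def l3_S_t : BT :=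
l3_S_t0

noncomputable def l3_S : ℕ → ℕ → ℕ := fun x i => Nat.land (Nat.shiftRight (BT.get l3_S_t x) (Nat.mul (nat_lit 6) i)) (nat_lit 63)

noncomputable def l3_defs : LT :=
(.node (.node (.node (.node (.node (.leaf [nat_lit 0])
 (.leaf [nat_lit 0,nat_lit 15,nat_lit 14])
) (.leaf [nat_lit 1,nat_lit 3])
) (.node (.leaf [nat_lit 0])
 (.leaf [nat_lit 1,nat_lit 10])
)) (.node (.node (.node (.leaf [nat_lit 0])
 (.leaf [nat_lit 1,nat_lit 16])
) (.leaf [nat_lit 0,nat_lit 9,nat_lit 2,nat_lit 1])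
) (.node (.leaf [nat_lit 1,nat_lit 1])
 (.leaf [nat_lit 0,nat_lit 11,nat_lit 12,nat_lit 12,nat_lit 11,nat_lit 10,nat_lit 10,nat_lit 11])
))) (.node (.node (.node (.node (.leaf [nat_lit 0])
 (.leaf [nat_lit 0,nat_lit 15,nat_lit 15,nat_lit 15,nat_lit 14,nat_lit 15,nat_lit 15,nat_lit 15,nat_lit 14,nat_lit 13,nat_lit 13,nat_lit 13])
) (.leaf [nat_lit 1,nat_lit 4])
) (.node (.leaf [nat_lit 1,nat_lit 0])
 (.leaf [nat_lit 0,nat_lit 11,nat_lit 12,nat_lit 11,nat_lit 12,nat_lit 12,nat_lit 11])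
)) (.node (.node (.node (.leaf [nat_lit 0])
 (.leaf [nat_lit 0,nat_lit 18,nat_lit 17,nat_lit 18,nat_lit 18])
) (.leaf [nat_lit 0,nat_lit 6,nat_lit 3,nat_lit 9])
) (.node (.leaf [nat_lit 1,nat_lit 2])
 (.leaf [nat_lit 1,nat_lit 13])
))))
noncomputable def l3_iota : ℕ → ℕ := getP (nat_lit 8) (nat_lit 255) (nat_lit 0x90408030702060105000c0a0e121013)
noncomputable def l3_inv : ℕ → ℕ := getP (nat_lit 8) (nat_lit 255) (nat_lit 0xe0f0c0d0a0b08090607040503010200)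
noncomputable def l3_hws : LT := .leaf []

noncomputable def l3_T_t0 : BT :=
(.node (.node (.node (.node (.leaf (nat_lit 0x104524d454f5d865a6dc59e7e08628dd9669e8a6a92cb6ebf0c6bcf4d76df8c8928b30d3881c61440c2040))
 (.leaf (nat_lit 0x2c86a0cd3f512f2e2565c88a304028387c146d98ad294dd3ae1b348c1e47b1ddc6976566c05091678ebd98))
) (.node (.leaf (nat_lit 0x61c108310579d8e28607c82ce28d24cd36e33d77c995dc69859b5115523d342fc31aecb6e9259a7a29a80))
 (.leaf (nat_lit 0xdc6769d134230a18802e0abe95a31f532ea9b7c5c8eb646620f626c957781ccbae67211b74d544f494010))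
)) (.node (.node (.leaf (nat_lit 0x289a4a6796a49055344f52daf0bacc6f5dc69859b672df5cf8db48e17dd8a078d2c938c2880c7101142180))
 (.leaf (nat_lit 0x249ea9a99685997186d76882ce28d24caeec6dc2cbdd8237e27a13d25515104f2d78d37cf6184087143040))
) (.node (.leaf (nat_lit 0x2660ab5f474868bf63136b7c2989b50dac85a4c8f75ce233aa5711821c314010b83566e4a7b17cde265401))
 (.leaf (nat_lit 0x14dc13706e97a37408217ea6ab282cd2d2e3c9a0772f9722d854419158ce27b190e4390b76c57993d45222))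
))) (.node (.node (.node (.leaf (nat_lit 0x186d769665c968927aa6a72d78d37cf65515104cf4a27a17608dfbebbb1b70b0b38a3493081810c51c2100))
 (.leaf (nat_lit 0x243c1c9d5ab428c188380b672911fb120eede58d168e24d2c030ab476d5867cd9d14bde1aa4d7171d66888))
) (.node (.leaf (nat_lit 0x217a27e381d30d38824a2c1083105187beeb6caf1c1a5997186d74d541250f4689a4a6796adf8cb3d35d80))
 (.leaf (nat_lit 0x2b2169323dddf0a626d4361a2fd8c4da9982ad7d1d0b83566e4a71821c314011ce233aa5719497b35ec401))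
)) (.node (.node (.leaf (nat_lit 0x1b7165d865a8a375e7e0869aa49669e8c31aecb6ebf7e32cf4d7634e20928b31454f4114931c61440c2040))
 (.leaf (nat_lit 0xc28834b24e85f76281e8f6d32df5cf869859b65772fb6bc2eb314d13d44905689a4a6796a1070c6085040))
) (.node (.leaf (nat_lit 0x1baae33215f5a9bcad478d8a302380a06a7c4dd0475c9ab2f71a15e5b09cc179992d3b60e24d544f494010))
 (.leaf (nat_lit 0x11dc80e395a1f472224fa2ac9f4056ccc00b2daf1bddce93981935f812450a84bd52667801795096366dae))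
))))

noncomputable def l3_T_t : BT :=
l3_T_t0

noncomputable def l3_T : ℕ → ℕ → ℕ := fun x i => Nat.land (Nat.shiftRight (BT.get l3_T_t x) (Nat.mul (nat_lit 6) i)) (nat_lit 63)

noncomputable def l3_E_t0 : BT :=
(.node (.node (.node (.leaf (nat_lit 0x30060cc120030380900984b0281283a00c09818c1601c01610c0202c0180683e06301814c0e02b01806c0205a0980f03a0340f60b0018120660900606c0a606c3a04a08816c060130280b02503900))
 (.leaf (nat_lit 0x80000000000000800000000000000000000000000))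
) (.leaf (nat_lit 0x603c0340580502c0540e80603e04c0a01e02a0340e00f02805c0281e01a0580e8170260300f80e02a0300b816038070070160240780680f01a05c0f81e03e0180f819000000000000000000000000))
) (.node (.leaf (nat_lit 0x505a0b00502501a0100a00505a0b00a01d00602c0d02d04a014128150480541601d0160100282405808c0a0260360700602c0160140680c03a050060140060b40a82405c0b40682d02c0a40202000))
 (.leaf (nat_lit 0x6028058120280400080000))
))

noncomputable def l3_E_t : BT :=
l3_E_t0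

noncomputable def l3_E : ℕ → ℕ → ℕ := fun x i => Nat.land (Nat.shiftRight (BT.get l3_E_t x) (Nat.mul (nat_lit 11) i)) (nat_lit 2047)

theorem l3_slp0 : allLt (nat_lit 15) (fun i => force (Nat.add (nat_lit 5) i) (slpOK l3_S l3_defs (nat_lit 57))) = true := by decide +kernel

theorem l3_ren : allLt (nat_lit 16) (fun x => force (l3_iota x) fun y => band (blt y (nat_lit 20)) (allRange (nat_lit 0) (nat_lit 57) fun i => Nat.beq (l3_S y i) (l3_T x i))) = true := by decide +kernel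

theorem l3_L4_o : band (allRange (nat_lit 0) (nat_lit 57) (orbOK l3_T (nat_lit 1) (l3_E (nat_lit 4)) (Nat.beq (nat_lit 9)))) (band (Nat.ble (nat_lit 2) (count2 (nat_lit 57) fun p => Nat.ble 256 (l3_E (nat_lit 4) p))) (allLt (nat_lit 0) (fun x => Nat.beq (l3_T x (nat_lit 9)) (nat_lit 9)))) = true := by decide +kernel

theorem l3_L3_o : band (allRange (nat_lit 0) (nat_lit 57) (orbOK l3_T (nat_lit 3) (l3_E (nat_lit 3)) (Nat.beq (nat_lit 1)))) (band (Nat.ble (nat_lit 6) (count2 (nat_lit 57) fun p => Nat.ble 256 (l3_E (nat_lit 3) p))) (allLt (nat_lit 1) (fun x => Nat.beq (l3_T x (nat_lit 1)) (nat_lit 1)))) = true := by decide +kernel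

theorem l3_L2_o : band (allRange (nat_lit 0) (nat_lit 57) (orbOK l3_T (nat_lit 4) (l3_E (nat_lit 2)) (Nat.beq (nat_lit 8)))) (band (Nat.ble (nat_lit 49) (count2 (nat_lit 57) fun p => Nat.ble 256 (l3_E (nat_lit 2) p))) (allLt (nat_lit 3) (fun x => Nat.beq (l3_T x (nat_lit 8)) (nat_lit 8)))) = true := by decide +kernel

theorem l3_L1_o : band (allRange (nat_lit 0) (nat_lit 57) (orbOK l3_T (nat_lit 6) (l3_E (nat_lit 1)) (Nat.beq (nat_lit 2)))) (band (Nat.ble (nat_lit 56) (count2 (nat_lit 57) fun p => Nat.ble 256 (l3_E (nat_lit 1) p))) (allLt (nat_lit 4) (fun x => Nat.beq (l3_T x (nat_lit 2)) (nat_lit 2)))) = true := by decide +kernel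

theorem l3_L0_o : band (allRange (nat_lit 0) (nat_lit 57) (orbOK l3_T (nat_lit 16) (l3_E (nat_lit 0)) (Nat.beq (nat_lit 0)))) (band (Nat.ble (nat_lit 57) (count2 (nat_lit 57) fun p => Nat.ble 256 (l3_E (nat_lit 0) p))) (allLt (nat_lit 6) (fun x => Nat.beq (l3_T x (nat_lit 0)) (nat_lit 0)))) = true := by decide +kernel

/-- The letters: a strong generating set, deepest stabiliser first. -/
noncomputable def l3_g {G : Type*} [Group G] (a : ℕ → G) : ℕ → G := fun x => slp a 5 l3_defs (l3_iota x)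

theorem l3_tabs {G α : Type*} [Group G] [MulAction G α] {e : ℕ → α} {a : ℕ → G} (h0 : Tabs e 57 l3_S a 5) : Tabs e 57 l3_T (l3_g a) 16 :=
  Tabs.rename (ι := l3_iota) (g := slp a 5 l3_defs) ((Tabs.slp_base l3_defs h0).slp_add (by decide) _ l3_slp0) l3_ren

theorem l3_gen {G : Type*} [Group G] (a : ℕ → G) : genLt (l3_g a) 16 = genLt a 5 :=
  genLt_slp_eq a l3_defs (back := getP 8 255 (nat_lit 0xe0c0a0806)) (by decide +kernel)

theorem l3_low4 {G α : Type*} [Group G] [MulAction G α] {e : ℕ → α} {a : ℕ → G} (he : Set.InjOn e (Set.Iio 57)) (h0 : Tabs e 57 l3_S a 5) :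
    LowLevel (genLt (l3_g a) 1) (genLt (l3_g a) 0) (e 9) 2 :=
  Tabs.lowLevel (l3_tabs h0) he (by decide) (by decide) (by decide) l3_L4_o

theorem l3_ge4 {G α : Type*} [Group G] [MulAction G α] {e : ℕ → α} {a : ℕ → G} (he : Set.InjOn e (Set.Iio 57)) (h0 : Tabs e 57 l3_S a 5) :
    Finite (genLt (l3_g a) 1) → 2 ≤ Nat.card (genLt (l3_g a) 1) := fun hK =>
  (l3_low4 he h0).card hK (one_le_card_fin _)

theorem l3_fix4 {G α : Type*} [Group G] [MulAction G α] {e : ℕ → α} {a : ℕ → G} (he : Set.InjOn e (Set.Iio 57)) (h0 : Tabs e 57 l3_S a 5) :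
    ∀ X : Subgroup G, Finite X → (genLt (l3_g a) 1) ≤ X → 2 * Nat.card (fixB e X [9]) ≤ Nat.card X :=
  (l3_low4 he h0).card_fix (card_fix_nil _ _)

theorem l3_low3 {G α : Type*} [Group G] [MulAction G α] {e : ℕ → α} {a : ℕ → G} (he : Set.InjOn e (Set.Iio 57)) (h0 : Tabs e 57 l3_S a 5) :
    LowLevel (genLt (l3_g a) 3) (genLt (l3_g a) 1) (e 1) 6 :=
  Tabs.lowLevel (l3_tabs h0) he (by decide) (by decide) (by decide) l3_L3_o

theorem l3_ge3 {G α : Type*} [Group G] [MulAction G α] {e : ℕ → α} {a : ℕ → G} (he : Set.InjOn e (Set.Iio 57)) (h0 : Tabs e 57 l3_S a 5) :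
    Finite (genLt (l3_g a) 3) → 12 ≤ Nat.card (genLt (l3_g a) 3) := fun hK =>
  (l3_low3 he h0).card hK (l3_ge4 he h0)

theorem l3_fix3 {G α : Type*} [Group G] [MulAction G α] {e : ℕ → α} {a : ℕ → G} (he : Set.InjOn e (Set.Iio 57)) (h0 : Tabs e 57 l3_S a 5) :
    ∀ X : Subgroup G, Finite X → (genLt (l3_g a) 3) ≤ X → 12 * Nat.card (fixB e X [1, 9]) ≤ Nat.card X :=
  (l3_low3 he h0).card_fix (l3_fix4 he h0)

theorem l3_low2 {G α : Type*} [Group G] [MulAction G α] {e : ℕ → α} {a : ℕ → G} (he : Set.InjOn e (Set.Iio 57)) (h0 : Tabs e 57 l3_S a 5) :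
    LowLevel (genLt (l3_g a) 4) (genLt (l3_g a) 3) (e 8) 49 :=
  Tabs.lowLevel (l3_tabs h0) he (by decide) (by decide) (by decide) l3_L2_o

theorem l3_ge2 {G α : Type*} [Group G] [MulAction G α] {e : ℕ → α} {a : ℕ → G} (he : Set.InjOn e (Set.Iio 57)) (h0 : Tabs e 57 l3_S a 5) :
    Finite (genLt (l3_g a) 4) → 588 ≤ Nat.card (genLt (l3_g a) 4) := fun hK =>
  (l3_low2 he h0).card hK (l3_ge3 he h0)

theorem l3_fix2 {G α : Type*} [Group G] [MulAction G α] {e : ℕ → α} {a : ℕ → G} (he : Set.InjOn e (Set.Iio 57)) (h0 : Tabs e 57 l3_S a 5) :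
    ∀ X : Subgroup G, Finite X → (genLt (l3_g a) 4) ≤ X → 588 * Nat.card (fixB e X [8, 1, 9]) ≤ Nat.card X :=
  (l3_low2 he h0).card_fix (l3_fix3 he h0)

theorem l3_low1 {G α : Type*} [Group G] [MulAction G α] {e : ℕ → α} {a : ℕ → G} (he : Set.InjOn e (Set.Iio 57)) (h0 : Tabs e 57 l3_S a 5) :
    LowLevel (genLt (l3_g a) 6) (genLt (l3_g a) 4) (e 2) 56 :=
  Tabs.lowLevel (l3_tabs h0) he (by decide) (by decide) (by decide) l3_L1_o

theorem l3_ge1 {G α : Type*} [Group G] [MulAction G α] {e : ℕ → α} {a : ℕ → G} (he : Set.InjOn e (Set.Iio 57)) (h0 : Tabs e 57 l3_S a 5) :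
    Finite (genLt (l3_g a) 6) → 32928 ≤ Nat.card (genLt (l3_g a) 6) := fun hK =>
  (l3_low1 he h0).card hK (l3_ge2 he h0)

theorem l3_fix1 {G α : Type*} [Group G] [MulAction G α] {e : ℕ → α} {a : ℕ → G} (he : Set.InjOn e (Set.Iio 57)) (h0 : Tabs e 57 l3_S a 5) :
    ∀ X : Subgroup G, Finite X → (genLt (l3_g a) 6) ≤ X → 32928 * Nat.card (fixB e X [2, 8, 1, 9]) ≤ Nat.card X :=
  (l3_low1 he h0).card_fix (l3_fix2 he h0)

theorem l3_low0 {G α : Type*} [Group G] [MulAction G α] {e : ℕ → α} {a : ℕ → G} (he : Set.InjOn e (Set.Iio 57)) (h0 : Tabs e 57 l3_S a 5) :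
    LowLevel (genLt (l3_g a) 16) (genLt (l3_g a) 6) (e 0) 57 :=
  Tabs.lowLevel (l3_tabs h0) he (by decide) (by decide) (by decide) l3_L0_o

theorem l3_ge0 {G α : Type*} [Group G] [MulAction G α] {e : ℕ → α} {a : ℕ → G} (he : Set.InjOn e (Set.Iio 57)) (h0 : Tabs e 57 l3_S a 5) :
    Finite (genLt (l3_g a) 16) → 1876896 ≤ Nat.card (genLt (l3_g a) 16) := fun hK =>
  (l3_low0 he h0).card hK (l3_ge1 he h0)

theorem l3_fix0 {G α : Type*} [Group G] [MulAction G α] {e : ℕ → α} {a : ℕ → G} (he : Set.InjOn e (Set.Iio 57)) (h0 : Tabs e 57 l3_S a 5) :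
    ∀ X : Subgroup G, Finite X → (genLt (l3_g a) 16) ≤ X → 1876896 * Nat.card (fixB e X [0, 2, 8, 1, 9]) ≤ Nat.card X :=
  (l3_low0 he h0).card_fix (l3_fix1 he h0)

theorem l3_ub0 {G α : Type*} [Group G] [MulAction G α] {e : ℕ → α} {a : ℕ → G} (he : Set.InjOn e (Set.Iio 57)) (h0 : Tabs e 57 l3_S a 5) (hub : Nat.card (genLt a 5) ≠ 0 ∧ Nat.card (genLt a 5) ≤ 1876896) :
    Nat.card (genLt (l3_g a) 16) ≠ 0 ∧ Nat.card (genLt (l3_g a) 16) ≤ 1876896 := by rw [l3_gen]; exact hub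

theorem l3_level0 {G α : Type*} [Group G] [MulAction G α] {e : ℕ → α} {a : ℕ → G} (he : Set.InjOn e (Set.Iio 57)) (h0 : Tabs e 57 l3_S a 5) (hub : Nat.card (genLt a 5) ≠ 0 ∧ Nat.card (genLt a 5) ≤ 1876896) :
    Level (genLt (l3_g a) 16) (genLt (l3_g a) 6) (e 0) 57 :=
  ((l3_low0 he h0).level (c := 32928) (l3_ub0 he h0 hub) (l3_ge1 he h0)).1

theorem l3_ub1 {G α : Type*} [Group G] [MulAction G α] {e : ℕ → α} {a : ℕ → G} (he : Set.InjOn e (Set.Iio 57)) (h0 : Tabs e 57 l3_S a 5) (hub : Nat.card (genLt a 5) ≠ 0 ∧ Nat.card (genLt a 5) ≤ 1876896) :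
    Nat.card (genLt (l3_g a) 6) ≠ 0 ∧ Nat.card (genLt (l3_g a) 6) ≤ 32928 :=
  ((l3_low0 he h0).level (c := 32928) (l3_ub0 he h0 hub) (l3_ge1 he h0)).2

theorem l3_level1 {G α : Type*} [Group G] [MulAction G α] {e : ℕ → α} {a : ℕ → G} (he : Set.InjOn e (Set.Iio 57)) (h0 : Tabs e 57 l3_S a 5) (hub : Nat.card (genLt a 5) ≠ 0 ∧ Nat.card (genLt a 5) ≤ 1876896) :
    Level (genLt (l3_g a) 6) (genLt (l3_g a) 4) (e 2) 56 :=
  ((l3_low1 he h0).level (c := 588) (l3_ub1 he h0 hub) (l3_ge2 he h0)).1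

theorem l3_ub2 {G α : Type*} [Group G] [MulAction G α] {e : ℕ → α} {a : ℕ → G} (he : Set.InjOn e (Set.Iio 57)) (h0 : Tabs e 57 l3_S a 5) (hub : Nat.card (genLt a 5) ≠ 0 ∧ Nat.card (genLt a 5) ≤ 1876896) :
    Nat.card (genLt (l3_g a) 4) ≠ 0 ∧ Nat.card (genLt (l3_g a) 4) ≤ 588 :=
  ((l3_low1 he h0).level (c := 588) (l3_ub1 he h0 hub) (l3_ge2 he h0)).2

theorem l3_level2 {G α : Type*} [Group G] [MulAction G α] {e : ℕ → α} {a : ℕ → G} (he : Set.InjOn e (Set.Iio 57)) (h0 : Tabs e 57 l3_S a 5) (hub : Nat.card (genLt a 5) ≠ 0 ∧ Nat.card (genLt a 5) ≤ 1876896) :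
    Level (genLt (l3_g a) 4) (genLt (l3_g a) 3) (e 8) 49 :=
  ((l3_low2 he h0).level (c := 12) (l3_ub2 he h0 hub) (l3_ge3 he h0)).1

theorem l3_ub3 {G α : Type*} [Group G] [MulAction G α] {e : ℕ → α} {a : ℕ → G} (he : Set.InjOn e (Set.Iio 57)) (h0 : Tabs e 57 l3_S a 5) (hub : Nat.card (genLt a 5) ≠ 0 ∧ Nat.card (genLt a 5) ≤ 1876896) :
    Nat.card (genLt (l3_g a) 3) ≠ 0 ∧ Nat.card (genLt (l3_g a) 3) ≤ 12 :=
  ((l3_low2 he h0).level (c := 12) (l3_ub2 he h0 hub) (l3_ge3 he h0)).2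

theorem l3_level3 {G α : Type*} [Group G] [MulAction G α] {e : ℕ → α} {a : ℕ → G} (he : Set.InjOn e (Set.Iio 57)) (h0 : Tabs e 57 l3_S a 5) (hub : Nat.card (genLt a 5) ≠ 0 ∧ Nat.card (genLt a 5) ≤ 1876896) :
    Level (genLt (l3_g a) 3) (genLt (l3_g a) 1) (e 1) 6 :=
  ((l3_low3 he h0).level (c := 2) (l3_ub3 he h0 hub) (l3_ge4 he h0)).1

theorem l3_ub4 {G α : Type*} [Group G] [MulAction G α] {e : ℕ → α} {a : ℕ → G} (he : Set.InjOn e (Set.Iio 57)) (h0 : Tabs e 57 l3_S a 5) (hub : Nat.card (genLt a 5) ≠ 0 ∧ Nat.card (genLt a 5) ≤ 1876896) :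
    Nat.card (genLt (l3_g a) 1) ≠ 0 ∧ Nat.card (genLt (l3_g a) 1) ≤ 2 :=
  ((l3_low3 he h0).level (c := 2) (l3_ub3 he h0 hub) (l3_ge4 he h0)).2

theorem l3_level4 {G α : Type*} [Group G] [MulAction G α] {e : ℕ → α} {a : ℕ → G} (he : Set.InjOn e (Set.Iio 57)) (h0 : Tabs e 57 l3_S a 5) (hub : Nat.card (genLt a 5) ≠ 0 ∧ Nat.card (genLt a 5) ≤ 1876896) :
    Level (genLt (l3_g a) 1) (genLt (l3_g a) 0) (e 9) 2 :=
  ((l3_low4 he h0).level (c := 1) (l3_ub4 he h0 hub) (one_le_card_fin _)).1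

theorem l3_card4 {G α : Type*} [Group G] [MulAction G α] {e : ℕ → α} {a : ℕ → G} (he : Set.InjOn e (Set.Iio 57)) (h0 : Tabs e 57 l3_S a 5) (hub : Nat.card (genLt a 5) ≠ 0 ∧ Nat.card (genLt a 5) ≤ 1876896) :
    Nat.card (genLt (l3_g a) 1) = 2 :=
  (l3_level4 he h0 hub).card (card_genLt_zero _)

theorem l3_base4 {G α : Type*} [Group G] [MulAction G α] {e : ℕ → α} {a : ℕ → G} (he : Set.InjOn e (Set.Iio 57)) (h0 : Tabs e 57 l3_S a 5) (hub : Nat.card (genLt a 5) ≠ 0 ∧ Nat.card (genLt a 5) ≤ 1876896) :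
    IsBase e (genLt (l3_g a) 1) [9] :=
  (l3_level4 he h0 hub).base (isBase_genLt_zero _ _)

theorem l3_card3 {G α : Type*} [Group G] [MulAction G α] {e : ℕ → α} {a : ℕ → G} (he : Set.InjOn e (Set.Iio 57)) (h0 : Tabs e 57 l3_S a 5) (hub : Nat.card (genLt a 5) ≠ 0 ∧ Nat.card (genLt a 5) ≤ 1876896) :
    Nat.card (genLt (l3_g a) 3) = 12 :=
  (l3_level3 he h0 hub).card (l3_card4 he h0 hub)

theorem l3_base3 {G α : Type*} [Group G] [MulAction G α] {e : ℕ → α} {a : ℕ → G} (he : Set.InjOn e (Set.Iio 57)) (h0 : Tabs e 57 l3_S a 5) (hub : Nat.card (genLt a 5) ≠ 0 ∧ Nat.card (genLt a 5) ≤ 1876896) :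
    IsBase e (genLt (l3_g a) 3) [1, 9] :=
  (l3_level3 he h0 hub).base (l3_base4 he h0 hub)

theorem l3_card2 {G α : Type*} [Group G] [MulAction G α] {e : ℕ → α} {a : ℕ → G} (he : Set.InjOn e (Set.Iio 57)) (h0 : Tabs e 57 l3_S a 5) (hub : Nat.card (genLt a 5) ≠ 0 ∧ Nat.card (genLt a 5) ≤ 1876896) :
    Nat.card (genLt (l3_g a) 4) = 588 :=
  (l3_level2 he h0 hub).card (l3_card3 he h0 hub)

theorem l3_base2 {G α : Type*} [Group G] [MulAction G α] {e : ℕ → α} {a : ℕ → G} (he : Set.InjOn e (Set.Iio 57)) (h0 : Tabs e 57 l3_S a 5) (hub : Nat.card (genLt a 5) ≠ 0 ∧ Nat.card (genLt a 5) ≤ 1876896) :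
    IsBase e (genLt (l3_g a) 4) [8, 1, 9] :=
  (l3_level2 he h0 hub).base (l3_base3 he h0 hub)

theorem l3_card1 {G α : Type*} [Group G] [MulAction G α] {e : ℕ → α} {a : ℕ → G} (he : Set.InjOn e (Set.Iio 57)) (h0 : Tabs e 57 l3_S a 5) (hub : Nat.card (genLt a 5) ≠ 0 ∧ Nat.card (genLt a 5) ≤ 1876896) :
    Nat.card (genLt (l3_g a) 6) = 32928 :=
  (l3_level1 he h0 hub).card (l3_card2 he h0 hub)

theorem l3_base1 {G α : Type*} [Group G] [MulAction G α] {e : ℕ → α} {a : ℕ → G} (he : Set.InjOn e (Set.Iio 57)) (h0 : Tabs e 57 l3_S a 5) (hub : Nat.card (genLt a 5) ≠ 0 ∧ Nat.card (genLt a 5) ≤ 1876896) :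
    IsBase e (genLt (l3_g a) 6) [2, 8, 1, 9] :=
  (l3_level1 he h0 hub).base (l3_base2 he h0 hub)

theorem l3_card0 {G α : Type*} [Group G] [MulAction G α] {e : ℕ → α} {a : ℕ → G} (he : Set.InjOn e (Set.Iio 57)) (h0 : Tabs e 57 l3_S a 5) (hub : Nat.card (genLt a 5) ≠ 0 ∧ Nat.card (genLt a 5) ≤ 1876896) :
    Nat.card (genLt (l3_g a) 16) = 1876896 :=
  (l3_level0 he h0 hub).card (l3_card1 he h0 hub)

theorem l3_base0 {G α : Type*} [Group G] [MulAction G α] {e : ℕ → α} {a : ℕ → G} (he : Set.InjOn e (Set.Iio 57)) (h0 : Tabs e 57 l3_S a 5) (hub : Nat.card (genLt a 5) ≠ 0 ∧ Nat.card (genLt a 5) ≤ 1876896) :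
    IsBase e (genLt (l3_g a) 16) [0, 2, 8, 1, 9] :=
  (l3_level0 he h0 hub).base (l3_base1 he h0 hub)

theorem l3_hinv {G α : Type*} [Group G] [MulAction G α] {e : ℕ → α} {a : ℕ → G} (he : Set.InjOn e (Set.Iio 57)) (h0 : Tabs e 57 l3_S a 5) (hub : Nat.card (genLt a 5) ≠ 0 ∧ Nat.card (genLt a 5) ≤ 1876896) : ∀ x < 16, l3_g a x * l3_g a (l3_inv x) = 1 :=
  (l3_tabs h0).hinv_of_base (l3_base0 he h0 hub) (by decide +kernel)

theorem l3_card {G α : Type*} [Group G] [MulAction G α] {e : ℕ → α} {a : ℕ → G} (he : Set.InjOn e (Set.Iio 57)) (h0 : Tabs e 57 l3_S a 5) (hub : Nat.card (genLt a 5) ≠ 0 ∧ Nat.card (genLt a 5) ≤ 1876896) :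
    Nat.card (genLt a 5) = 1876896 := by
  rw [← l3_gen]; exact l3_card0 he h0 hub

end Cfsg.Agent.Spor.MON
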