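import Mathlib
import Cfsg.Agent.Spor.ON.RepC0
import Cfsg.Agent.Spor.ON.RepC1
import Cfsg.Agent.Spor.ON.RepC2
import Cfsg.Agent.Spor.ON.RepC3
import Cfsg.Agent.Spor.ON.RepC4
import Cfsg.Agent.Spor.ON.RepC5
import Cfsg.Agent.Spor.ON.RepC6
import Cfsg.Agent.Spor.ON.RepC7
import Cfsg.Agent.Spor.ON.RepC8
import Cfsg.Agent.Spor.ON.RepC9
import Cfsg.Agent.Spor.ON.RepC10
import Cfsg.Agent.Spor.ON.RepC11
import Cfsg.Agent.Spor.ON.RepC12
import Cfsg.Agent.Spor.ON.RepC13
import Cfsg.Agent.Spor.ON.RepC14
import Cfsg.Agent.Spor.Comp.Derive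

/-! Generated by tools/pg: the action of ON on 122760 points -/

set_option autoImplicit false
set_option maxRecDepth 100000
set_option linter.unusedVariables false
set_option exponentiation.threshold 100000

namespace Cfsg.Agent.Spor.MON

open Cfsg.Agent.Spor


theorem invc : allRange (nat_lit 0) (nat_lit 122760) (fun i => allLt (nat_lit 8) fun x => band (blt (S x i) (nat_lit 122760)) (Nat.beq (S (inv x) (S x i)) i)) = true := (allRange_join' (nat_lit 122760) (allRange_join' (nat_lit 121790) (allRange_join' (nat_lit 115380) (allRange_join' (nat_lit 108970) (allRange_join' (nat_lit 102560) (allRange_join' (nat_lit 96150) (allRange_join' (nat_lit 89740) (allRange_join' (nat_lit 83330) (allRange_join' (nat_lit 76920) (allRange_join' (nat_lit 70510) (allRange_join' (nat_lit 64100) (allRange_join' (nat_lit 57690) (allRange_join' (nat_lit 51280) (allRange_join' (nat_lit 44870) (allRange_join' (nat_lit 38460) (allRange_join' (nat_lit 32050) (allRange_join' (nat_lit 25640) (allRange_join' (nat_lit 19230) (allRange_join' (nat_lit 12820)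 invc_0 invc_1 rfl) invc_2 rfl) invc_3 rfl) invc_4 rfl) invc_5 rfl) invc_6 rfl) invc_7 rfl) invc_8 rfl) invc_9 rfl) invc_10 rfl) invc_11 rfl) invc_12 rfl) invc_13 rfl) invc_14 rfl) invc_15 rfl) invc_16 rfl) invc_17 rfl) invc_18 rfl) invc_19 rfl)
theorem rsu0 : FixUpto S Rs 54250 := (((((((((((((((((((((((((((((((((((((((((((((((((((fixUpto_zero S Rs).step _ rs0).step _ rs1).step _ rs2).step _ rs3).step _ rs4).step _ rs5).step _ rs6).step _ rs7).step _ rs8).step _ rs9).step _ rs10).step _ rs11).step _ rs12).step _ rs13).step _ rs14).step _ rs15).step _ rs16).step _ rs17).step _ rs18).step _ rs19).step _ rs20).step _ rs21).step _ rs22).step _ rs23).step _ rs24).step _ rs25).step _ rs26).step _ rs27).step _ rs28).step _ rs29).step _ rs30).step _ rs31).step _ rs32).step _ rs33).step _ rs34).step _ rs35).step _ rs36).step _ rs37).step _ rs38).step _ rs39).step _ rs40).step _ rs41).step _ rs42).step _ rs43).step _ rs44).step _ rs45).step _ rs46).step _ rs47).step _ rs48).step _ rs49)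
theorem rsu1 : FixUpto S Rs 108500 := ((((((((((((((((((((((((((((((((((((((((((((((((((rsu0.step _ rs50).step _ rs51).step _ rs52).step _ rs53).step _ rs54).step _ rs55).step _ rs56).step _ rs57).step _ rs58).step _ rs59).step _ rs60).step _ rs61).step _ rs62).step _ rs63).step _ rs64).step _ rs65).step _ rs66).step _ rs67).step _ rs68).step _ rs69).step _ rs70).step _ rs71).step _ rs72).step _ rs73).step _ rs74).step _ rs75).step _ rs76).step _ rs77).step _ rs78).step _ rs79).step _ rs80).step _ rs81).step _ rs82).step _ rs83).step _ rs84).step _ rs85).step _ rs86).step _ rs87).step _ rs88).step _ rs89).step _ rs90).step _ rs91).step _ rs92).step _ rs93).step _ rs94).step _ rs95).step _ rs96).step _ rs97).step _ rs98).step _ rs99)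

theorem hinvS : ∀ x < 8, invOK 122760 (S x) (S (inv x)) = true := invOK_of_range invc

theorem tabsP : Tabs (finE 122760) 122760 S (fun x => permOf 122760 (S x)) 8 := tabs_permOf hinvS

theorem relS : ∀ i, evalW (fun x => permOf 122760 (S x)) (Rs.get i) = 1 :=
  tabsP.rels_of_fixUpto (fun a _ h => finE_faithful a h) (by decide +kernel) ((((((((((((((rsu1.step _ rs100).step _ rs101).step _ rs102).step _ rs103).step _ rs104).step _ rs105).step _ rs106).step _ rs107).step _ rs108).step _ rs109).step _ rs110).step _ rs111).step _ rs112).step _ rs113)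

theorem fa0 : allRange (nat_lit 0) (nat_lit 122760) (fun i => Nat.beq (traceP S [nat_lit 4,nat_lit 2,nat_lit 3,nat_lit 6] i) (F0 i)) = true := (allRange_join' (nat_lit 122760) (allRange_join' (nat_lit 114284) (allRange_join' (nat_lit 85713) (allRange_join' (nat_lit 57142) fa0_0 fa0_1 rfl) fa0_2 rfl) fa0_3 rfl) fa0_4 rfl)
theorem fb0 : allRange (nat_lit 0) (nat_lit 122760) (fun i => Nat.beq (traceP S [] (iterT F0 (nat_lit 5) i)) i) = true := (allRange_join' (nat_lit 122760) (allRange_join' (nat_lit 114284) (allRange_join' (nat_lit 85713) (allRange_join' (nat_lit 57142) fb0_0 fb0_1 rfl) fb0_2 rfl) fb0_3 rfl) fb0_4 rfl)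
theorem relL0 : evalW (fun x => permOf 122760 (S x)) (appL [] (powW 5 [4, 2, 3, 6])) = 1 :=
  tabsP.pow_rel (fun a _ h => finE_faithful a h) (by decide +kernel) fa0 fb0

theorem exHom : ∃ φ : Cfsg.Spor.ON →* Equiv.Perm (Fin 122760), ∀ x < 8, φ (g x) = permOf 122760 (S x) :=
  exists_presHom hL (t := (LT.node (LT.node Rp Rs) (.leaf (appL [] (powW 5 [4, 2, 3, 6])))))
    (LT.forall_node (P := fun w => evalW _ w = 1) (LT.forall_node (P := fun w => evalW _ w = 1) (pairs_rel hinvS (by decide +kernel)) relS) (fun _ => relL0))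
    (by decide +kernel) (by decide +kernel) (by decide +kernel)

/-- The permutation representation of degree 122760. -/
noncomputable def phi : Cfsg.Spor.ON →* Equiv.Perm (Fin 122760) := exHom.choose

/-- The action on 122760 points. -/
noncomputable instance act : MulAction Cfsg.Spor.ON (Fin 122760) := MulAction.compHom _ phi

theorem smul_def (y : Cfsg.Spor.ON) (i : Fin 122760) : y • i = phi y i := rfl

/-- The generators act by the tables `S`. -/
theorem tabs0 : Tabs (finE 122760) 122760 S g 8 := tabs_compHom phi tabsP exHom.choose_spec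

end Cfsg.Agent.Spor.MON
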