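import Mathlib
import Cfsg.Agent.Spor.Comp.Model

/-! Generated by tools/pg: small coset enumerations -/

set_option autoImplicit false
set_option maxRecDepth 100000
set_option linter.unusedVariables false
set_option exponentiation.threshold 100000

namespace Cfsg.Agent.Spor.MON

open Cfsg.Agent.Spor

noncomputable def u1_rels : LT :=
(.node (.leaf [])
 (.leaf [nat_lit 0,nat_lit 0])
)
noncomputable def u1_hws : LT :=
(.leaf [])

noncomputable def u1_inv : ℕ → ℕ := getP (nat_lit 8) (nat_lit 255) (nat_lit 0)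

noncomputable def u1_t : BT :=
(.node (.node (.leaf (nat_lit 0x9001))
 (.leaf (nat_lit 0x800000))
) (.leaf (nat_lit 0xff87fc))
)

noncomputable def u1_rules : LT :=
(.leaf [nat_lit 0,nat_lit 0,nat_lit 0,nat_lit 1])


noncomputable def u1_subs : LT :=
(.leaf [nat_lit 0,nat_lit 0,nat_lit 0,nat_lit 1])


noncomputable def u1 : TC :=
  ⟨fun x c => Nat.shiftRight (BT.get u1_t x) (Nat.mul (nat_lit 13) c),
  (nat_lit 2), (nat_lit 3), (nat_lit 2047), (nat_lit 11), (nat_lit 3), (nat_lit 2044), (nat_lit 2), (nat_lit 2), (nat_lit 1), (nat_lit 0), (nat_lit 1), (nat_lit 2), u1_inv, u1_rules, u1_subs⟩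

noncomputable def u2_rels : LT :=
(.node (.node (.leaf [])
 (.leaf [nat_lit 1,nat_lit 1])
) (.node (.leaf [nat_lit 0,nat_lit 0])
 (.leaf [nat_lit 0,nat_lit 1,nat_lit 0,nat_lit 1])
))
noncomputable def u2_hws : LT :=
(.leaf [])

noncomputable def u2_inv : ℕ → ℕ := getP (nat_lit 8) (nat_lit 255) (nat_lit 0x100)

noncomputable def u2_t : BT :=
(.node (.node (.leaf (nat_lit 0x2037800))
 (.leaf (nat_lit 0x1ff07fc))
) (.node (.leaf (nat_lit 0x21005))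
 (.leaf (nat_lit 0x1010000))
))

noncomputable def u2_rules : LT :=
(.leaf [nat_lit 3,nat_lit 1,nat_lit 1,nat_lit 0,nat_lit 1,nat_lit 0,nat_lit 1])


noncomputable def u2_subs : LT :=
(.leaf [nat_lit 0,nat_lit 0,nat_lit 0,nat_lit 2])


noncomputable def u2 : TC :=
  ⟨fun x c => Nat.shiftRight (BT.get u2_t x) (Nat.mul (nat_lit 14) c),
  (nat_lit 2), (nat_lit 3), (nat_lit 2047), (nat_lit 11), (nat_lit 7), (nat_lit 2044), (nat_lit 2), (nat_lit 2), (nat_lit 2), (nat_lit 1), (nat_lit 2), (nat_lit 3), u2_inv, u2_rules, u2_subs⟩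

noncomputable def u3_rels : LT :=
(.node (.node (.node (.leaf [])
 (.leaf [nat_lit 0,nat_lit 1,nat_lit 0,nat_lit 1])
) (.node (.leaf [nat_lit 1,nat_lit 1])
 (.leaf [nat_lit 1,nat_lit 2,nat_lit 1,nat_lit 2])
)) (.node (.node (.leaf [nat_lit 0,nat_lit 0])
 (.leaf [nat_lit 0,nat_lit 2,nat_lit 0,nat_lit 2])
) (.leaf [nat_lit 2,nat_lit 2])
))
noncomputable def u3_hws : LT :=
(.leaf [])

noncomputable def u3_inv : ℕ → ℕ := getP (nat_lit 8) (nat_lit 255) (nat_lit 0x20100)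

noncomputable def u3_t : BT :=
(.node (.node (.node (.leaf (nat_lit 0x408b800))
 (.leaf (nat_lit 0x2040000))
) (.leaf (nat_lit 0x61009))
) (.node (.leaf (nat_lit 0x240ab804))
 (.leaf (nat_lit 0x3fe07fc))
))

noncomputable def u3_rules : LT :=
(.node (.leaf [nat_lit 5,nat_lit 1,nat_lit 1,nat_lit 0,nat_lit 2,nat_lit 0,nat_lit 2])
 (.leaf [nat_lit 6,nat_lit 1,nat_lit 1,nat_lit 1,nat_lit 2,nat_lit 1,nat_lit 2])
)

noncomputable def u3_subs : LT :=
(.leaf [nat_lit 0,nat_lit 0,nat_lit 0,nat_lit 3])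


noncomputable def u3 : TC :=
  ⟨fun x c => Nat.shiftRight (BT.get u3_t x) (Nat.mul (nat_lit 15) c),
  (nat_lit 2), (nat_lit 3), (nat_lit 2047), (nat_lit 11), (nat_lit 15), (nat_lit 2044), (nat_lit 2), (nat_lit 2), (nat_lit 3), (nat_lit 2), (nat_lit 3), (nat_lit 4), u3_inv, u3_rules, u3_subs⟩

noncomputable def u4_rels : LT :=
(.node (.node (.node (.node (.leaf [])
 (.leaf [nat_lit 1,nat_lit 2,nat_lit 1,nat_lit 2])
) (.leaf [nat_lit 3,nat_lit 3])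
) (.node (.node (.leaf [nat_lit 1,nat_lit 1])
 (.leaf [nat_lit 2,nat_lit 3,nat_lit 2,nat_lit 3,nat_lit 2,nat_lit 3,nat_lit 2,nat_lit 3,nat_lit 2,nat_lit 3,nat_lit 2,nat_lit 3,nat_lit 2,nat_lit 3,nat_lit 2,nat_lit 3])
) (.leaf [nat_lit 0,nat_lit 2,nat_lit 0,nat_lit 2])
)) (.node (.node (.node (.leaf [nat_lit 0,nat_lit 0])
 (.leaf [nat_lit 1,nat_lit 3,nat_lit 1,nat_lit 3])
) (.leaf [nat_lit 0,nat_lit 1,nat_lit 0,nat_lit 1])
) (.node (.node (.leaf [nat_lit 2,nat_lit 2])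
 (.leaf [nat_lit 0,nat_lit 1,nat_lit 3,nat_lit 2,nat_lit 3,nat_lit 2,nat_lit 3,nat_lit 2,nat_lit 3,nat_lit 2])
) (.leaf [nat_lit 0,nat_lit 3,nat_lit 0,nat_lit 3])
)))
noncomputable def u4_hws : LT :=
(.leaf [])

noncomputable def u4_inv : ℕ → ℕ := getP (nat_lit 8) (nat_lit 255) (nat_lit 0x3020100)

noncomputable def u4_t : BT :=
(.node (.node (.node (.leaf (nat_lit 0x40d68812810148e000))
 (.leaf (nat_lit 0x3ff007fe00ffc01ff8))
) (.leaf (nat_lit 0x840f600104201d0e010))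
) (.node (.node (.leaf (nat_lit 0x240e6c814890188e008))
 (.leaf (nat_lit 0x303404044040c00000))
) (.leaf (nat_lit 0xc41016c001004019))
))

noncomputable def u4_rules : LT :=
(.node (.node (.node (.leaf [nat_lit 7,nat_lit 1,nat_lit 1,nat_lit 0,nat_lit 3,nat_lit 0,nat_lit 3])
 (.leaf [nat_lit 11,nat_lit 6,nat_lit 1,nat_lit 2,nat_lit 3,nat_lit 1,nat_lit 0,nat_lit 2,nat_lit 3,nat_lit 2,nat_lit 3,nat_lit 2,nat_lit 3])
) (.leaf [nat_lit 6,nat_lit 1,nat_lit 1,nat_lit 0,nat_lit 2,nat_lit 0,nat_lit 2])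
) (.node (.leaf [nat_lit 9,nat_lit 1,nat_lit 1,nat_lit 1,nat_lit 3,nat_lit 1,nat_lit 3])
 (.leaf [nat_lit 8,nat_lit 1,nat_lit 1,nat_lit 1,nat_lit 2,nat_lit 1,nat_lit 2])
))

noncomputable def u4_subs : LT :=
(.leaf [nat_lit 0,nat_lit 0,nat_lit 0,nat_lit 4])


noncomputable def u4 : TC :=
  ⟨fun x c => Nat.shiftRight (BT.get u4_t x) (Nat.mul (nat_lit 19) c),
  (nat_lit 3), (nat_lit 7), (nat_lit 8191), (nat_lit 13), (nat_lit 63), (nat_lit 8184), (nat_lit 4), (nat_lit 4), (nat_lit 4), (nat_lit 3), (nat_lit 4), (nat_lit 5), u4_inv, u4_rules, u4_subs⟩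

noncomputable def u5_rels : LT :=
(.node (.node (.node (.node (.node (.leaf [])
 (.leaf [nat_lit 0,nat_lit 1,nat_lit 3,nat_lit 2,nat_lit 3,nat_lit 2,nat_lit 3,nat_lit 2,nat_lit 3,nat_lit 2])
) (.leaf [nat_lit 0,nat_lit 3,nat_lit 0,nat_lit 3])
) (.node (.leaf [nat_lit 3,nat_lit 3])
 (.leaf [nat_lit 1,nat_lit 4,nat_lit 1,nat_lit 4])
)) (.node (.node (.leaf [nat_lit 1,nat_lit 1])
 (.leaf [nat_lit 1,nat_lit 2,nat_lit 1,nat_lit 2])
) (.node (.leaf [nat_lit 0,nat_lit 1,nat_lit 0,nat_lit 1])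
 (.leaf [nat_lit 2,nat_lit 4,nat_lit 2,nat_lit 4,nat_lit 2,nat_lit 4])
))) (.node (.node (.node (.leaf [nat_lit 0,nat_lit 0])
 (.leaf [nat_lit 0,nat_lit 4,nat_lit 0,nat_lit 4,nat_lit 0,nat_lit 4])
) (.node (.leaf [nat_lit 4,nat_lit 4])
 (.leaf [nat_lit 2,nat_lit 3,nat_lit 2,nat_lit 3,nat_lit 2,nat_lit 3,nat_lit 2,nat_lit 3,nat_lit 2,nat_lit 3,nat_lit 2,nat_lit 3,nat_lit 2,nat_lit 3,nat_lit 2,nat_lit 3])
)) (.node (.node (.leaf [nat_lit 2,nat_lit 2])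
 (.leaf [nat_lit 1,nat_lit 3,nat_lit 1,nat_lit 3])
) (.node (.leaf [nat_lit 0,nat_lit 2,nat_lit 0,nat_lit 2])
 (.leaf [nat_lit 3,nat_lit 4,nat_lit 3,nat_lit 4])
))))
noncomputable def u5_hws : LT :=
(.leaf [])

noncomputable def u5_inv : ℕ → ℕ := getP (nat_lit 8) (nat_lit 255) (nat_lit 0x403020100)

noncomputable def u5_t : BT :=
(.node (.node (.node (.leaf (nat_lit 0xa20c73000c94720b10a20a71000b320008cc00084b7207ed0408af04082eb2066a720528000549b20447a203850003a67202630002840001210401020e0000))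
 (.leaf (nat_lit 0x920cd4920bf1620b72000c136209ed42094e00096f000a100007290006a80005e604070c04068b0004040405ca9203250403e76202034201820000a0040081))
) (.node (.leaf (nat_lit 0xf20cf3000d14000aeff20ab10009ac040ad2e2088e0007ca040990c206eb0407ad0005060004a5c204670404e90404880002420001c10402240401a30e0040))
 (.leaf (nat_lit 0x1207201007001004f00e06d00e04c00e00c00c00b00c04a00c08900a08800a08600a046008045008084008064006063006042004041004001002080000000))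
)) (.node (.node (.leaf (nat_lit 0x820cb4820bd3520b52820a915209d02208ef22086e52080d02074c0206cb02060a5205695204c80204278203c68203055202a45201e32201420200c10e0020))
 (.leaf (nat_lit 0x1ffe001ffe001ffe001ffe001ffe001ffe001ffe001ffe001ffe001ffe001ffe001ffe001ffe001ffe001ffe001ffe001ffe001ffe001ffe001ffe001ffe0))
) (.leaf (nat_lit 0xc52000bb0040c34000a4d040b9332090e00092f040a3112076b00078c120627d205880005a900064a0003640002e30403460402c53201621200e10e0060))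
))

noncomputable def u5_rules : LT :=
(.node (.node (.node (.node (.leaf [nat_lit 12,nat_lit 1,nat_lit 1,nat_lit 1,nat_lit 4,nat_lit 1,nat_lit 4])
 (.leaf [nat_lit 11,nat_lit 1,nat_lit 1,nat_lit 1,nat_lit 3,nat_lit 1,nat_lit 3])
) (.node (.leaf [nat_lit 9,nat_lit 4,nat_lit 1,nat_lit 4,nat_lit 0,nat_lit 4,nat_lit 0,nat_lit 4,nat_lit 0])
 (.leaf [nat_lit 14,nat_lit 3,nat_lit 1,nat_lit 2,nat_lit 4,nat_lit 2,nat_lit 4,nat_lit 2,nat_lit 4])
)) (.node (.node (.leaf [nat_lit 6,nat_lit 2,nat_lit 1,nat_lit 1,nat_lit 0,nat_lit 1,nat_lit 0])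
 (.leaf [nat_lit 8,nat_lit 1,nat_lit 1,nat_lit 0,nat_lit 3,nat_lit 0,nat_lit 3])
) (.node (.leaf [nat_lit 14,nat_lit 4,nat_lit 1,nat_lit 4,nat_lit 2,nat_lit 4,nat_lit 2,nat_lit 4,nat_lit 2])
 (.leaf [nat_lit 7,nat_lit 2,nat_lit 1,nat_lit 2,nat_lit 0,nat_lit 2,nat_lit 0])
))) (.node (.node (.node (.leaf [nat_lit 15,nat_lit 1,nat_lit 1,nat_lit 3,nat_lit 4,nat_lit 3,nat_lit 4])
 (.leaf [nat_lit 15,nat_lit 2,nat_lit 1,nat_lit 4,nat_lit 3,nat_lit 4,nat_lit 3])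
) (.node (.leaf [nat_lit 10,nat_lit 1,nat_lit 1,nat_lit 1,nat_lit 2,nat_lit 1,nat_lit 2])
 (.leaf [nat_lit 16,nat_lit 5,nat_lit 1,nat_lit 3,nat_lit 2,nat_lit 3,nat_lit 1,nat_lit 0,nat_lit 2,nat_lit 3,nat_lit 2,nat_lit 3,nat_lit 2])
)) (.node (.node (.leaf [nat_lit 8,nat_lit 2,nat_lit 1,nat_lit 3,nat_lit 0,nat_lit 3,nat_lit 0])
 (.leaf [nat_lit 9,nat_lit 3,nat_lit 1,nat_lit 0,nat_lit 4,nat_lit 0,nat_lit 4,nat_lit 0,nat_lit 4])
) (.node (.leaf [nat_lit 7,nat_lit 1,nat_lit 1,nat_lit 0,nat_lit 2,nat_lit 0,nat_lit 2])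
 (.leaf [nat_lit 16,nat_lit 6,nat_lit 1,nat_lit 2,nat_lit 3,nat_lit 1,nat_lit 0,nat_lit 2,nat_lit 3,nat_lit 2,nat_lit 3,nat_lit 2,nat_lit 3])
))))

noncomputable def u5_subs : LT :=
(.leaf [nat_lit 0,nat_lit 0,nat_lit 0,nat_lit 5])


noncomputable def u5 : TC :=
  ⟨fun x c => Nat.shiftRight (BT.get u5_t x) (Nat.mul (nat_lit 24) c),
  (nat_lit 5), (nat_lit 31), (nat_lit 131071), (nat_lit 17), (nat_lit 127), (nat_lit 131040), (nat_lit 21), (nat_lit 21), (nat_lit 5), (nat_lit 4), (nat_lit 5), (nat_lit 6), u5_inv, u5_rules, u5_subs⟩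

theorem u1_c1 : u1.rules.all (ruleOK u1.m u1.inv u1_rels) = true := by decide +kernel
theorem u1_c2 : u1.subs.all (subOK u1.m u1.inv u1_hws) = true := by decide +kernel
theorem u1_c3 : u1.base = true := by decide +kernel

theorem u1_s0 : u1.slots (nat_lit 0) (nat_lit 2) = true := by decide +kernel

theorem u2_c1 : u2.rules.all (ruleOK u2.m u2.inv u2_rels) = true := by decide +kernel
theorem u2_c2 : u2.subs.all (subOK u2.m u2.inv u2_hws) = true := by decide +kernel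
theorem u2_c3 : u2.base = true := by decide +kernel

theorem u2_s0 : u2.slots (nat_lit 0) (nat_lit 2) = true := by decide +kernel

theorem u3_c1 : u3.rules.all (ruleOK u3.m u3.inv u3_rels) = true := by decide +kernel
theorem u3_c2 : u3.subs.all (subOK u3.m u3.inv u3_hws) = true := by decide +kernel
theorem u3_c3 : u3.base = true := by decide +kernel

theorem u3_s0 : u3.slots (nat_lit 0) (nat_lit 2) = true := by decide +kernel

theorem u4_c1 : u4.rules.all (ruleOK u4.m u4.inv u4_rels) = true := by decide +kernel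
theorem u4_c2 : u4.subs.all (subOK u4.m u4.inv u4_hws) = true := by decide +kernel
theorem u4_c3 : u4.base = true := by decide +kernel

theorem u4_s0 : u4.slots (nat_lit 0) (nat_lit 4) = true := by decide +kernel

theorem u5_c1 : u5.rules.all (ruleOK u5.m u5.inv u5_rels) = true := by decide +kernel
theorem u5_c2 : u5.subs.all (subOK u5.m u5.inv u5_hws) = true := by decide +kernel
theorem u5_c3 : u5.base = true := by decide +kernel

theorem u5_s0 : u5.slots (nat_lit 0) (nat_lit 21) = true := by decide +kernel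

theorem u1_c4 : u1.Upto u1.N := ((TC.upto_zero u1).step _ u1_s0)
theorem u1_c5 : u1.UptoE u1.N := (TC.uptoE_n u1)
theorem u1_bound {G : Type*} [Group G] {g : ℕ → G} {H : Subgroup G} (hinv : ∀ x < 1, g x * g (u1_inv x) = 1)
    (hrels : ∀ i, evalW g (u1_rels.get i) = 1) (hH : ∀ x < 0, g x ∈ H) (hhws : ∀ i, evalW g (u1_hws.get i) ∈ H) :
    H.relIndex (genLt g 1) ≠ 0 ∧ H.relIndex (genLt g 1) ≤ 2 :=
  TC.relIndex_le (T := u1) hinv hrels hH hhws u1_c1 u1_c2 u1_c3 u1_c4 u1_c5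
theorem u2_c4 : u2.Upto u2.N := ((TC.upto_zero u2).step _ u2_s0)
theorem u2_c5 : u2.UptoE u2.N := (TC.uptoE_n u2)
theorem u2_bound {G : Type*} [Group G] {g : ℕ → G} {H : Subgroup G} (hinv : ∀ x < 2, g x * g (u2_inv x) = 1)
    (hrels : ∀ i, evalW g (u2_rels.get i) = 1) (hH : ∀ x < 1, g x ∈ H) (hhws : ∀ i, evalW g (u2_hws.get i) ∈ H) :
    H.relIndex (genLt g 2) ≠ 0 ∧ H.relIndex (genLt g 2) ≤ 2 :=
  TC.relIndex_le (T := u2) hinv hrels hH hhws u2_c1 u2_c2 u2_c3 u2_c4 u2_c5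
theorem u3_c4 : u3.Upto u3.N := ((TC.upto_zero u3).step _ u3_s0)
theorem u3_c5 : u3.UptoE u3.N := (TC.uptoE_n u3)
theorem u3_bound {G : Type*} [Group G] {g : ℕ → G} {H : Subgroup G} (hinv : ∀ x < 3, g x * g (u3_inv x) = 1)
    (hrels : ∀ i, evalW g (u3_rels.get i) = 1) (hH : ∀ x < 2, g x ∈ H) (hhws : ∀ i, evalW g (u3_hws.get i) ∈ H) :
    H.relIndex (genLt g 3) ≠ 0 ∧ H.relIndex (genLt g 3) ≤ 2 :=
  TC.relIndex_le (T := u3) hinv hrels hH hhws u3_c1 u3_c2 u3_c3 u3_c4 u3_c5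
theorem u4_c4 : u4.Upto u4.N := ((TC.upto_zero u4).step _ u4_s0)
theorem u4_c5 : u4.UptoE u4.N := (TC.uptoE_n u4)
theorem u4_bound {G : Type*} [Group G] {g : ℕ → G} {H : Subgroup G} (hinv : ∀ x < 4, g x * g (u4_inv x) = 1)
    (hrels : ∀ i, evalW g (u4_rels.get i) = 1) (hH : ∀ x < 3, g x ∈ H) (hhws : ∀ i, evalW g (u4_hws.get i) ∈ H) :
    H.relIndex (genLt g 4) ≠ 0 ∧ H.relIndex (genLt g 4) ≤ 4 :=
  TC.relIndex_le (T := u4) hinv hrels hH hhws u4_c1 u4_c2 u4_c3 u4_c4 u4_c5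
theorem u5_c4 : u5.Upto u5.N := ((TC.upto_zero u5).step _ u5_s0)
theorem u5_c5 : u5.UptoE u5.N := (TC.uptoE_n u5)
theorem u5_bound {G : Type*} [Group G] {g : ℕ → G} {H : Subgroup G} (hinv : ∀ x < 5, g x * g (u5_inv x) = 1)
    (hrels : ∀ i, evalW g (u5_rels.get i) = 1) (hH : ∀ x < 4, g x ∈ H) (hhws : ∀ i, evalW g (u5_hws.get i) ∈ H) :
    H.relIndex (genLt g 5) ≠ 0 ∧ H.relIndex (genLt g 5) ≤ 21 :=
  TC.relIndex_le (T := u5) hinv hrels hH hhws u5_c1 u5_c2 u5_c3 u5_c4 u5_c5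

end Cfsg.Agent.Spor.MON
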